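import Cfsg.Agent.J4Index22.Code
import Cfsg.Agent.J4Index22.Data.Elems
import Cfsg.Agent.J4Index22.Data.Cert

/-! Kernel check of a block of facts. -/

set_option autoImplicit false
set_option Elab.async false
set_option maxRecDepth 100000
set_option maxHeartbeats 4000000

namespace CfsgLib.J4Index22.Tab

open CfsgLib.DCert22

theorem facts11_ok : rangeOK (code chain cchain) cert 2816 256 = true := by decide +kernel

end CfsgLib.J4Index22.Tab
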