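import Cfsg.Agent.J4Index22.Code
import Cfsg.Agent.J4Index22.Data.Elems
import Cfsg.Agent.J4Index22.Data.Reps

/-! Kernel check: the representatives are elements of the group. -/

set_option autoImplicit false
set_option Elab.async false
set_option maxRecDepth 100000

namespace CfsgLib.J4Index22.Tab

/-- representatives in a range are valid -/
noncomputable def validOK (s k : ℕ) : Bool :=
  (List.range k).all fun i => (code chain cchain).valid (reps.get (s + i))

theorem valid0 : validOK 0 345 = true := by decide +kernel

theorem valid1 : validOK 345 345 = true := by decide +kernel

theorem valid2 : validOK 690 345 = true := by decide +kernel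

theorem valid3 : validOK 1035 345 = true := by decide +kernel

theorem valid4 : validOK 1380 345 = true := by decide +kernel

theorem valid5 : validOK 1725 345 = true := by decide +kernel

theorem valid6 : validOK 2070 345 = true := by decide +kernel

theorem valid7 : validOK 2415 345 = true := by decide +kernel

theorem valid8 : validOK 2760 345 = true := by decide +kernel

theorem valid9 : validOK 3105 345 = true := by decide +kernel

theorem valid10 : validOK 3450 345 = true := by decide +kernel

theorem valid_all : ∀ i < 3795, validOK (i / 345 * 345) 345 = true := by
  intro i hi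
  rcases (by omega : i / 345 = 0 ∨ i / 345 = 1 ∨ i / 345 = 2 ∨ i / 345 = 3 ∨ i / 345 = 4 ∨ i / 345 = 5 ∨ i / 345 = 6 ∨ i / 345 = 7 ∨ i / 345 = 8 ∨ i / 345 = 9 ∨ i / 345 = 10) with h | h | h | h | h | h | h | h | h | h | h <;> rw [h]
  exacts [valid0, valid1, valid2, valid3, valid4, valid5, valid6, valid7, valid8, valid9, valid10]

end CfsgLib.J4Index22.Tab
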